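import Cfsg.Prelude.Def_Characters
import Cfsg.Agent.Lib.Jordan.GaloisNorm
import Mathlib.GroupTheory.GroupAction.Quotient
import Mathlib.Algebra.BigOperators.Ring.Finset

/-!
# Sums over the union of the conjugates of a TI set, and the Galois lower bound for two characters
-/

set_option autoImplicit false
set_option linter.style.haveILetI false
set_option linter.unusedSectionVars false

open Cfsg Finset

namespace CfsgLib.FT.PF13B

universe u

variable {G : Type u} [Group G] [Fintype G]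

/-- The elements conjugate to a member of `A`. -/
noncomputable def conjUnion [DecidableEq G] (A : Finset G) : Finset G :=
  (Finset.univ ×ˢ A).image fun z : G × G => z.1 * z.2 * z.1⁻¹

theorem mem_conjUnion [DecidableEq G] {A : Finset G} {g : G} :
    g ∈ conjUnion A ↔ ∃ x, ∃ a ∈ A, g = x * a * x⁻¹ := by
  simp only [conjUnion, Finset.mem_image, Finset.mem_product, Finset.mem_univ, true_and,
    Prod.exists]
  exact ⟨fun ⟨x, a, ha, e⟩ => ⟨x, a, ha, e.symm⟩, fun ⟨x, a, ha, e⟩ => ⟨x, a, ha, e.symm⟩⟩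

/-- Summing a class function over the conjugates of a TI set. -/
theorem sum_conjUnion [DecidableEq G] (M : Subgroup G) (A : Finset G)
    (hconj : ∀ m ∈ M, ∀ a ∈ A, m * a * m⁻¹ ∈ A)
    (hTI : ∀ g : G, ∀ a ∈ A, g * a * g⁻¹ ∈ A → g ∈ M)
    {R : Type*} [CommRing R] (f : G → R) (hf : ∀ g x : G, f (x * g * x⁻¹) = f g) :
    ∑ g ∈ conjUnion A, f g = (M.index : R) * ∑ a ∈ A, f a := by
  classical
  haveI : Fintype (G ⧸ M) := Fintype.ofFinite _
  have h : ∑ z ∈ (Finset.univ : Finset (G ⧸ M)) ×ˢ A, f (z.1.out * z.2 * z.1.out⁻¹) =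
      ∑ g ∈ conjUnion A, f g := by
    refine Finset.sum_bij (fun z _ => z.1.out * z.2 * z.1.out⁻¹) ?_ ?_ ?_ (fun _ _ => rfl)
    · intro z hz
      exact mem_conjUnion.2 ⟨_, z.2, (Finset.mem_product.1 hz).2, rfl⟩
    · rintro ⟨a, x⟩ hx ⟨b, y⟩ hy e
      dsimp only at e
      have hx' := (Finset.mem_product.1 hx).2
      have hy' := (Finset.mem_product.1 hy).2
      have e1 : (b.out⁻¹ * a.out) * x * (b.out⁻¹ * a.out)⁻¹ = y := by
        calc _ = b.out⁻¹ * (a.out * x * a.out⁻¹) * b.out := by group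
          _ = _ := by rw [e]; group
      have hm := hTI _ x hx' (e1 ▸ hy')
      have hab : b = a := by
        rw [← b.out_eq', ← a.out_eq']
        exact QuotientGroup.eq.2 hm
      subst hab
      simpa using e
    · intro g hg
      obtain ⟨x, a, ha, rfl⟩ := mem_conjUnion.1 hg
      obtain ⟨n, hn⟩ := QuotientGroup.mk_out_eq_mul M x
      refine ⟨((x : G ⧸ M), (n : G)⁻¹ * a * n), Finset.mem_product.2 ⟨Finset.mem_univ _, ?_⟩, ?_⟩
      · simpa using hconj _ (inv_mem n.2) a ha
      · rw [hn]; group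
  rw [← h, Finset.sum_product]
  simp only [hf]
  rw [Finset.sum_const, Finset.card_univ, nsmul_eq_mul, ← Nat.card_eq_fintype_card, Subgroup.index]

/-- On a set stable under powers prime to the group order where two characters have no common
zero, the sum of their squared absolute values is at least the size of the set. -/
theorem card_le_sum_norm_sq_two {χ ψ : G → ℂ} (hχ : IsCharacter G χ) (hψ : IsCharacter G ψ)
    (S : Finset G) (hS : ∀ g ∈ S, ∀ t : ℕ, t.Coprime (Nat.card G) → g ^ t ∈ S)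
    (h0 : ∀ g ∈ S, χ g ≠ 0 ∨ ψ g ≠ 0) :
    (S.card : ℝ) ≤ ∑ g ∈ S, (‖χ g‖ ^ 2 + ‖ψ g‖ ^ 2) := by
  classical
  haveI : NeZero (Nat.card G) := ⟨Nat.card_pos.ne'⟩
  have hn : ∀ g : G, g ^ Nat.card G = 1 := fun g => pow_card_eq_one'
  set f : G → ℝ := fun g => ‖χ g‖ ^ 2 + ‖ψ g‖ ^ 2 with hf
  have h1 : ∀ u : (ZMod (Nat.card G))ˣ,
      ∑ g ∈ S, f (g ^ (u : ZMod (Nat.card G)).val) = ∑ g ∈ S, f g := by
    intro u
    have himg : S.image (fun g => g ^ (u : ZMod (Nat.card G)).val) = S :=
      Finset.eq_of_subset_of_card_le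
        (Finset.image_subset_iff.mpr fun g hg => hS g hg _ (ZMod.val_coe_unit_coprime u))
        (Finset.card_image_of_injective _ (CfsgLib.Jordan.pow_unit_injective hn u)).ge
    conv_rhs => rw [← himg, Finset.sum_image (CfsgLib.Jordan.pow_unit_injective hn u).injOn]
  have hpt : ∀ g ∈ S, (Fintype.card (ZMod (Nat.card G))ˣ : ℝ) ≤
      ∑ u : (ZMod (Nat.card G))ˣ, f (g ^ (u : ZMod (Nat.card G)).val) := by
    intro g hg
    rcases h0 g hg with h | h
    · exact (CfsgLib.Jordan.totient_le_sum_norm_sq hχ (hn g) h).trans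
        (Finset.sum_le_sum fun u _ => le_add_of_nonneg_right (sq_nonneg _))
    · exact (CfsgLib.Jordan.totient_le_sum_norm_sq hψ (hn g) h).trans
        (Finset.sum_le_sum fun u _ => le_add_of_nonneg_left (sq_nonneg _))
  have h2 : (S.card : ℝ) * (Fintype.card (ZMod (Nat.card G))ˣ : ℝ) ≤
      (∑ g ∈ S, f g) * (Fintype.card (ZMod (Nat.card G))ˣ : ℝ) :=
    calc (S.card : ℝ) * (Fintype.card (ZMod (Nat.card G))ˣ : ℝ)
        ≤ ∑ g ∈ S, ∑ u : (ZMod (Nat.card G))ˣ, f (g ^ (u : ZMod (Nat.card G)).val) := by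
          rw [← nsmul_eq_mul, ← Finset.sum_const]
          exact Finset.sum_le_sum hpt
      _ = _ := by
          rw [Finset.sum_comm, Finset.sum_congr rfl fun u _ => h1 u, Finset.sum_const,
            Finset.card_univ, nsmul_eq_mul, mul_comm]
  exact le_of_mul_le_mul_right h2 (by exact_mod_cast Fintype.card_pos)

end CfsgLib.FT.PF13B
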