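import Cfsg.Agent.Lib.Frobenius.ConjChar
import Cfsg.Agent.Lib.Frobenius.Induce
import Cfsg.Agent.Lib.CharTheory.Decomp
import Cfsg.Agent.Lib.Coherence.Inner
import Cfsg.Agent.Lib.Coherence.Constituent
import Cfsg.Agent.Lib.CharTheory.Orthogonality

/-!
# Characters induced from a normal subgroup: inner products through the conjugates
-/

set_option autoImplicit false
set_option linter.style.haveILetI false
set_option linter.unusedSectionVars false

open Cfsg CfsgLib.CharTheory CfsgLib.Frobenius
open scoped ComplexConjugate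

namespace CfsgLib.FT.PF13B

universe u

variable {L : Type u} [Group L] [Fintype L] (N : Subgroup L) [N.Normal] [Fintype N]

open scoped Classical in
/-- `⟨θ^L, ψ^L⟩` counts the elements carrying `θ` to `ψ`. -/
theorem inner_indFun_conj {θ ψ : N → ℂ} (hθ : IsIrrCharacter N θ) (hψ : IsIrrCharacter N ψ) :
    classInner (indFun N θ) (indFun N ψ) =
      (Nat.card N : ℂ)⁻¹ *
        ((Finset.univ.filter fun x : L => conjTwist N x θ = ψ).card : ℂ) := by
  rw [classInner_indFun_right N ψ _ (indFun_isClassFunction N θ),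
    show (fun n : N => indFun N θ n) = (Nat.card N : ℂ)⁻¹ • ∑ x : L, conjTwist N x θ from
      funext fun n => by simp [indFun_coe_normal N θ n, Finset.sum_apply],
    CfsgLib.Coherence.inner_smul_left, CfsgLib.Coherence.inner_sum_left, Finset.card_filter,
    Nat.cast_sum]
  congr 1
  refine Finset.sum_congr rfl fun x _ => ?_
  by_cases e : conjTwist N x θ = ψ
  · rw [e, classInner_self_of_isIrr hψ, if_pos rfl, Nat.cast_one]
  · rw [classInner_eq_zero_of_ne (isIrrCharacter_conjTwist N x hθ) hψ e, if_neg e, Nat.cast_zero]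

/-- The coefficient of `ψ` in the restriction of `θ^L`. -/
theorem inner_restrict_indFun {θ ψ : N → ℂ} :
    classInner (fun n : N => indFun N θ n) ψ = classInner (indFun N θ) (indFun N ψ) :=
  (classInner_indFun_right N ψ _ (indFun_isClassFunction N θ)).symm

theorem conjTwist_one (θ : N → ℂ) : conjTwist N (1 : L) θ = θ := by
  funext n
  simp [conjTwist]

theorem conjTwist_mul (x y : L) (θ : N → ℂ) :
    conjTwist N (x * y) θ = conjTwist N x (conjTwist N y θ) := by
  funext n
  simp only [conjTwist]
  congr 1
  exact Subtype.ext (by group)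

/-- If `N` is the whole stabilizer of `θ`, then `θ^L` is irreducible. -/
theorem isIrr_indFun_of_stab {θ : N → ℂ} (hθ : IsIrrCharacter N θ)
    (hstab : ∀ x : L, conjTwist N x θ = θ ↔ x ∈ N) : IsIrrCharacter L (indFun N θ) := by
  classical
  refine (isIrrCharacter_iff_norm_one
    (isCharacter_indFun N θ (IsIrrCharacter.isCharacter hθ))).2 ?_
  rw [inner_indFun_conj N hθ hθ]
  have e : (Finset.univ.filter fun x : L => conjTwist N x θ = θ) =
      Finset.univ.filter fun x : L => x ∈ N := Finset.filter_congr fun x _ => hstab x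
  rw [e, show (Finset.univ.filter fun x : L => x ∈ N).card = Nat.card N by
      rw [Nat.card_eq_fintype_card, Fintype.card_subtype]]
  exact inv_mul_cancel₀ (Nat.cast_ne_zero.2 Nat.card_pos.ne')

/-- Roots of unity with sum equal to their number are all `1`. -/
theorem eq_one_of_sum_eq {ι : Type*} [Fintype ι] (f : ι → ℂ) (h1 : ∀ i, ‖f i‖ = 1)
    (hsum : ∑ i, f i = (Fintype.card ι : ℂ)) (i : ι) : f i = 1 := by
  have h2 : ∑ i, (1 - (f i).re) = 0 := by
    rw [Finset.sum_sub_distrib, ← Complex.re_sum, hsum]
    simp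
  have h3 : ∀ i, 0 ≤ 1 - (f i).re := fun i => by
    have := Complex.re_le_norm (f i)
    rw [h1 i] at this
    linarith
  have h4 := (Finset.sum_eq_zero_iff_of_nonneg fun i _ => h3 i).1 h2 i (Finset.mem_univ i)
  have h5 : (f i).re ^ 2 + (f i).im ^ 2 = 1 := by
    have := Complex.sq_norm (f i)
    rw [h1 i, Complex.normSq_apply] at this
    nlinarith
  have h6 : (f i).re = 1 := by linarith
  refine Complex.ext h6 ?_
  rw [h6] at h5
  simpa using h5

end CfsgLib.FT.PF13B
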